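import Groth.Agent.GalFunLib.Basic
import Mathlib.CategoryTheory.CofilteredSystem

/-!
# Uniqueness of fibre functors on a Galois category
-/

set_option autoImplicit false
universe w v u

open CategoryTheory CategoryTheory.Limits CategoryTheory.PreGaloisCategory

namespace GalFunLib

variable {C : Type u} [Category.{v} C] [GaloisCategory C] (F : C ⥤ FintypeCat.{w}) [FiberFunctor F]

instance (priority := 100) pointedGalois_cofiltered : IsCofilteredOrEmpty (PointedGaloisObject F) where
  cone_objs := fun ⟨A, a, _⟩ ⟨B, b, _⟩ ↦ by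
    obtain ⟨Z, f, z, hgal, hfz⟩ := exists_hom_from_galois_of_fiber F (A ⨯ B)
      <| (fiberBinaryProductEquiv F A B).symm (a, b)
    refine ⟨⟨Z, z, hgal⟩, ⟨f ≫ prod.fst, ?_⟩, ⟨f ≫ prod.snd, ?_⟩, trivial⟩
    · simp only [F.map_comp, hfz, FintypeCat.comp_apply, fiberBinaryProductEquiv_symm_fst_apply]
    · simp only [F.map_comp, hfz, FintypeCat.comp_apply, fiberBinaryProductEquiv_symm_snd_apply]
  cone_maps := fun ⟨A, a, _⟩ ⟨B, b, _⟩ ⟨f, hf⟩ ⟨g, hg⟩ ↦ by
    obtain ⟨Z, h, z, hgal, hhz⟩ := exists_hom_from_galois_of_fiber F A a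
    refine ⟨⟨Z, z, hgal⟩, ⟨h, hhz⟩, PointedGaloisObject.hom_ext ?_⟩
    apply evaluation_injective_of_isConnected F Z B z
    simp [hhz, hf, hg]

variable (F' : C ⥤ FintypeCat.{w})

omit [GaloisCategory C] in
theorem isEmpty_initial [HasInitial C] [PreservesColimitsOfShape (Discrete WalkingPair) F'] :
    IsEmpty (F'.obj (⊥_ C)) := by
  refine ⟨fun p => ?_⟩
  have hc0 : IsColimit (BinaryCofan.mk (𝟙 (⊥_ C)) (𝟙 (⊥_ C))) :=
    BinaryCofan.IsColimit.mk _ (fun f _ => f) (fun f _ => Category.id_comp f)
      (fun f g => initialIsInitial.hom_ext _ _) (fun f g m _ _ => initialIsInitial.hom_ext _ _)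
  have hc := mapIsColimitOfPreservesOfIsColimit F' _ _ hc0
  obtain ⟨d, hd1, hd2⟩ := BinaryCofan.IsColimit.desc' hc
    (FintypeCat.homMk (fun _ => ULift.up.{w} true) : F'.obj (⊥_ C) ⟶ FintypeCat.of (ULift.{w} Bool))
    (FintypeCat.homMk (fun _ => ULift.up.{w} false) : F'.obj (⊥_ C) ⟶ FintypeCat.of (ULift.{w} Bool))
  have : (ULift.up true : ULift.{w} Bool) = ULift.up false :=
    (ConcreteCategory.congr_hom hd1 p).symm.trans (ConcreteCategory.congr_hom hd2 p)
  simp at this

theorem preservesFiniteCoproducts [PreservesColimitsOfShape (Discrete WalkingPair) F'] :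
    PreservesFiniteCoproducts F' := by
  haveI := isEmpty_initial F'
  haveI : PreservesColimit (Functor.empty.{0} C) F' :=
    preservesInitial_of_iso F' (IsInitial.uniqueUpToIso initialIsInitial
      (IsInitial.ofUniqueHom (fun Y => FintypeCat.homMk fun p => isEmptyElim p)
        (fun Y m => FintypeCat.hom_ext _ _ fun p => isEmptyElim p)))
  haveI := preservesColimitsOfShape_pempty_of_preservesInitial F'
  exact ⟨fun n => PreservesFiniteCoproducts.of_preserves_binary_and_initial F' (Fin n)⟩

variable [PreservesFiniteLimits F'] [PreservesColimitsOfShape (Discrete WalkingPair) F']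

include F in
theorem eval_injective {A X : C} [IsConnected A] (s : F'.obj A) {f g : A ⟶ X}
    (h : F'.map f s = F'.map g s) : f = g := by
  have hl := isLimitForkMapOfIsLimit F' _ (equalizerIsEqualizer f g)
  obtain ⟨l, -⟩ := Fork.IsLimit.lift' hl
    (FintypeCat.homMk (fun _ => s) : FintypeCat.of PUnit.{w + 1} ⟶ F'.obj A)
    (FintypeCat.hom_ext _ _ fun _ => h)
  haveI : IsIso (equalizer.ι f g) := by
    refine IsConnected.noTrivialComponent _ _ fun hI => ?_
    have e := hI.uniqueUpToIso initialIsInitial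
    exact (isEmpty_initial F').false (F'.map e.hom (l PUnit.unit))
  exact eq_of_epi_equalizer

omit [FiberFunctor F] in
theorem exists_component (P : C) (y : F'.obj P) :
    ∃ (Y : C) (i : Y ⟶ P) (y' : F'.obj Y), F'.map i y' = y ∧ IsConnected Y ∧ Mono i := by
  haveI := preservesFiniteCoproducts F'
  obtain ⟨ι, f, g, hl, hc, he⟩ := has_decomp_connected_components P
  haveI : PreservesColimitsOfShape (Discrete ι) F' := inferInstance
  obtain ⟨⟨j⟩, z, h⟩ := Concrete.isColimit_exists_rep _ (isColimitOfPreserves F' hl) y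
  exact ⟨f j, g j, z, h, hc j, MonoCoprod.mono_inj _ (Cofan.mk P g) hl j⟩

/-- A functor preserving finite limits and binary coproducts that is nonempty on non-initial
objects is isomorphic to the fibre functor. -/
theorem nonempty_iso (hne : ∀ A : C, IsConnected A → Nonempty (F'.obj A)) : Nonempty (F' ≅ F) := by
  let D : PointedGaloisObject F ⥤ Type w := PointedGaloisObject.incl F ⋙ F' ⋙ FintypeCat.incl
  haveI : ∀ A, Finite (D.obj A) := fun A => inferInstanceAs (Finite (F'.obj A.obj))
  haveI : ∀ A, Nonempty (D.obj A) := fun A => hne A.obj inferInstance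
  obtain ⟨s, hs⟩ := nonempty_sections_of_finite_cofiltered_system D
  let pt : ∀ A : PointedGaloisObject F, F'.obj A.obj := fun A => s A
  have hpt : ∀ {A B : PointedGaloisObject F} (m : A ⟶ B), F'.map m.val (pt A) = pt B := fun m => hs m
  have hindep : ∀ {A B : PointedGaloisObject F} {X : C} (f : A.obj ⟶ X) (g : B.obj ⟶ X),
      F.map f A.pt = F.map g B.pt → F'.map f (pt A) = F'.map g (pt B) := by
    intro A B X f g h
    obtain ⟨Z, p, q, -⟩ := IsCofilteredOrEmpty.cone_objs A B
    have : p.val ≫ f = q.val ≫ g := by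
      apply evaluation_injective_of_isConnected F Z.obj X Z.pt
      simp [h]
    rw [← hpt p, ← hpt q, ← FintypeCat.comp_apply, ← F'.map_comp, this, F'.map_comp, FintypeCat.comp_apply]
  choose GA ga hgal hbij using exists_galois_representative F
  let P : C → PointedGaloisObject F := fun X => ⟨GA X, ga X, hgal X⟩
  let rep : ∀ (X : C), F.obj X → ((P X).obj ⟶ X) := fun X x => ((hbij X).surjective x).choose
  have hrep : ∀ (X : C) (x : F.obj X), F.map (rep X x) (P X).pt = x := fun X x =>
    ((hbij X).surjective x).choose_spec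
  let t : F ⟶ F' :=
    { app := fun X => FintypeCat.homMk fun x => F'.map (rep X x) (pt (P X))
      naturality := fun X Y h => FintypeCat.hom_ext _ _ fun x => by
        show F'.map (rep Y (F.map h x)) (pt (P Y)) = F'.map h (F'.map (rep X x) (pt (P X)))
        rw [← FintypeCat.comp_apply (F'.map (rep X x)), ← F'.map_comp]
        refine hindep _ _ ?_
        rw [F.map_comp, FintypeCat.comp_apply, hrep, hrep] }
  haveI : ∀ X, IsIso (t.app X) := by
    intro X
    rw [ConcreteCategory.isIso_iff_bijective]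
    refine ⟨fun x x' h => ?_, fun y => ?_⟩
    · rw [← hrep X x, ← hrep X x', eval_injective F F' _ (show F'.map (rep X x) (pt (P X)) = _ from h)]
    · let A := P X
      have hc' := mapIsLimitOfPreservesOfIsLimit F' _ _ (prodIsProd A.obj X)
      obtain ⟨l, hl1, hl2⟩ := BinaryFan.IsLimit.lift' hc'
        (FintypeCat.homMk (fun _ => pt A) : FintypeCat.of PUnit.{w + 1} ⟶ F'.obj A.obj)
        (FintypeCat.homMk (fun _ => y) : FintypeCat.of PUnit.{w + 1} ⟶ F'.obj X)
      obtain ⟨Y, i, w', hw, hY, hi⟩ := exists_component F' (A.obj ⨯ X) (l PUnit.unit)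
      obtain ⟨z⟩ := nonempty_fiber_of_isConnected F Y
      obtain ⟨α₀, hα₀⟩ := MulAction.exists_smul_eq (Aut A.obj) A.pt (F.map prod.fst (F.map i z))
      obtain ⟨α, hα⟩ : ∃ α : A.obj ≅ A.obj, F.map α.hom A.pt = F.map prod.fst (F.map i z) := ⟨α₀, hα₀⟩
      obtain ⟨g, hg⟩ := (hbij X).surjective (F.map prod.snd (F.map i z))
      let Γ : A.obj ⟶ A.obj ⨯ X := prod.lift α.hom g
      haveI : Mono (Γ ≫ prod.fst) := by rw [prod.lift_fst]; infer_instance
      haveI : Mono Γ := mono_of_mono Γ prod.fst
      have hΓ : F.map Γ A.pt = F.map i z := by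
        have hc := mapIsLimitOfPreservesOfIsLimit F _ _ (prodIsProd A.obj X)
        have h12 : (FintypeCat.homMk (fun _ => F.map Γ A.pt) : FintypeCat.of PUnit.{w + 1} ⟶ F.obj (A.obj ⨯ X)) =
            FintypeCat.homMk (fun _ => F.map i z) := by
          refine BinaryFan.IsLimit.hom_ext hc ?_ ?_ <;> refine FintypeCat.hom_ext _ _ fun _ => ?_
          · show F.map prod.fst (F.map Γ A.pt) = F.map prod.fst (F.map i z)
            rw [← FintypeCat.comp_apply, ← F.map_comp, prod.lift_fst]
            exact hα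
          · show F.map prod.snd (F.map Γ A.pt) = F.map prod.snd (F.map i z)
            rw [← FintypeCat.comp_apply, ← F.map_comp, prod.lift_snd]
            exact hg
        exact congrArg (fun k : FintypeCat.of PUnit.{w + 1} ⟶ F.obj (A.obj ⨯ X) => k PUnit.unit) h12
      obtain ⟨e, he⟩ := connected_component_unique F A.pt z Γ i hΓ
      have hei : e.hom ≫ i = Γ := evaluation_injective_of_isConnected F _ _ A.pt (by
        show F.map (e.hom ≫ i) A.pt = F.map Γ A.pt
        rw [F.map_comp, FintypeCat.comp_apply, he, hΓ])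
      have hei' : e.inv ≫ Γ = i := by rw [← hei, Iso.inv_hom_id_assoc]
      have h1 : F'.map (e.inv ≫ α.hom) w' = pt A := by
        rw [← prod.lift_fst α.hom g, ← Category.assoc, hei', F'.map_comp, FintypeCat.comp_apply, hw]
        exact ConcreteCategory.congr_hom hl1 PUnit.unit
      have h2 : F'.map (e.inv ≫ g) w' = y := by
        rw [← prod.lift_snd α.hom g, ← Category.assoc, hei', F'.map_comp, FintypeCat.comp_apply, hw]
        exact ConcreteCategory.congr_hom hl2 PUnit.unit
      refine ⟨F.map (α.inv ≫ g) A.pt, ?_⟩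
      show F'.map (rep X _) (pt A) = y
      rw [hindep (rep X _) (α.inv ≫ g) (hrep X _), ← h1, ← FintypeCat.comp_apply, ← F'.map_comp]
      simpa using h2
  haveI : IsIso t := NatIso.isIso_of_isIso_app t
  exact ⟨(asIso t).symm⟩

end GalFunLib
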