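import Mathlib.CategoryTheory.Galois.Equivalence
import Mathlib.CategoryTheory.Galois.Topology
import Mathlib.CategoryTheory.Galois.Full
import Mathlib.CategoryTheory.Galois.Prorepresentability

/-!
# Dictionary between a Galois category and finite sets with an action of `Aut F`
-/

set_option autoImplicit false
universe w v u

open CategoryTheory CategoryTheory.Limits CategoryTheory.PreGaloisCategory

namespace GalFunLib

variable {C : Type u} [Category.{v} C] [GaloisCategory C] (F : C ⥤ FintypeCat.{w}) [FiberFunctor F]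

omit [GaloisCategory C] [FiberFunctor F] in
theorem smul_def (σ : Aut F) {X : C} (x : F.obj X) : σ • x = σ.hom.app X x := rfl

omit [GaloisCategory C] [FiberFunctor F] in
theorem aut_ext {σ τ : Aut F} (h : ∀ (X : C) (x : F.obj X), σ • x = τ • x) : σ = τ :=
  Iso.ext (NatTrans.ext (funext fun X => FintypeCat.hom_ext _ _ fun x => h X x))

omit [GaloisCategory C] [FiberFunctor F] in
theorem map_smul {X Y : C} (f : X ⟶ Y) (σ : Aut F) (x : F.obj X) : F.map f (σ • x) = σ • F.map f x :=
  (mulAction_naturality (F := F) σ f x).symm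

theorem aut_eq_one_of_connected {σ : Aut F} (h : ∀ (X : C) [IsConnected X] (x : F.obj X), σ • x = x) :
    σ = 1 :=
  aut_ext F fun X x => by
    obtain ⟨Y, i, y, rfl, hY, -⟩ := fiber_in_connected_component F X x
    rw [← map_smul, h Y y, one_smul]

/-- An equivariant map of fibres comes from a morphism. -/
theorem exists_hom_of_equivariant {X Y : C} (φ : F.obj X → F.obj Y)
    (h : ∀ (σ : Aut F) x, φ (σ • x) = σ • φ x) : ∃ f : X ⟶ Y, ∀ x, F.map f x = φ x := by
  let m : (functorToAction F).obj X ⟶ (functorToAction F).obj Y :=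
    { hom := FintypeCat.homMk φ
      comm := fun σ => FintypeCat.hom_ext _ _ fun x => h σ x }
  refine ⟨(functorToAction F).preimage m, fun x => ?_⟩
  have h1 := congrArg (fun m : (functorToAction F).obj X ⟶ (functorToAction F).obj Y => m.hom x)
    ((functorToAction F).map_preimage m)
  exact h1

/-- Morphisms out of a connected object are given by a point with bigger stabilizer. -/
theorem exists_hom_iff {A Y : C} [IsConnected A] (a : F.obj A) (y : F.obj Y) :
    (∃ f : A ⟶ Y, F.map f a = y) ↔ MulAction.stabilizer (Aut F) a ≤ MulAction.stabilizer (Aut F) y := by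
  constructor
  · rintro ⟨f, rfl⟩ σ (hσ : σ • a = a)
    show σ • F.map f a = F.map f a
    rw [← map_smul, hσ]
  · intro hle
    choose g hg using fun x : F.obj A => MulAction.exists_smul_eq (Aut F) a x
    have key : ∀ σ τ : Aut F, σ • a = τ • a → σ • y = τ • y := fun σ τ h => by
      have h1 : τ⁻¹ * σ ∈ MulAction.stabilizer (Aut F) y :=
        hle (show (τ⁻¹ * σ) • a = a by rw [mul_smul, h, inv_smul_smul])
      rw [MulAction.mem_stabilizer_iff, mul_smul, inv_smul_eq_iff] at h1
      exact h1
    obtain ⟨f, hf⟩ := exists_hom_of_equivariant F (fun x => g x • y) fun σ x => by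
      rw [← mul_smul]
      exact key _ _ (by rw [hg, mul_smul, hg])
    exact ⟨f, by rw [hf]; exact (key _ 1 (by rw [hg, one_smul])).trans (one_smul _ y)⟩

theorem isConnected_of_transitive {X : C} [Nonempty (F.obj X)]
    (h : ∀ x y : F.obj X, ∃ σ : Aut F, σ • x = y) : IsConnected X where
  notInitial hI := by
    obtain ⟨x⟩ := ‹Nonempty (F.obj X)›
    exact not_initial_of_inhabited F x hI
  noTrivialComponent Y i _ hY := by
    obtain ⟨y⟩ := (not_initial_iff_fiber_nonempty F Y).1 hY
    have hinj : Function.Injective (F.map i) :=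
      ConcreteCategory.injective_of_mono_of_preservesPullback (F.map i)
    have : IsIso (F.map i) := by
      rw [ConcreteCategory.isIso_iff_bijective]
      refine ⟨hinj, fun x => ?_⟩
      obtain ⟨σ, hσ⟩ := h (F.map i y) x
      exact ⟨σ • y, by rw [map_smul, hσ]⟩
    exact isIso_of_reflects_iso i F

theorem nonempty_terminal : Nonempty (F.obj (⊤_ C)) := by
  let e := (PreservesTerminal.iso F)
  let t : (FintypeCat.of PUnit.{w + 1}) ⟶ F.obj (⊤_ C) :=
    terminal.from _ ≫ e.inv
  exact ⟨t PUnit.unit⟩

theorem subsingleton_terminal : Subsingleton (F.obj (⊤_ C)) := by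
  refine ⟨fun s t => ?_⟩
  have h : (FintypeCat.homMk (fun _ : PUnit.{w + 1} => s) : FintypeCat.of PUnit.{w + 1} ⟶ F.obj (⊤_ C)) =
      FintypeCat.homMk (fun _ => t) :=
    (IsTerminal.isTerminalObj F _ terminalIsTerminal).hom_ext _ _
  exact congrArg (fun f : FintypeCat.of PUnit.{w + 1} ⟶ F.obj (⊤_ C) => f PUnit.unit) h

theorem smul_terminal (σ : Aut F) (t : F.obj (⊤_ C)) : σ • t = t :=
  (subsingleton_terminal F).elim _ _

include F in
theorem isConnected_terminal : IsConnected (⊤_ C) := by
  haveI := nonempty_terminal F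
  exact isConnected_of_transitive F fun x y => ⟨1, (subsingleton_terminal F).elim _ _⟩

/-- Sections are fixed points. -/
theorem exists_section_iff {Y : C} (y : F.obj Y) :
    (∃ s : ⊤_ C ⟶ Y, ∀ t, F.map s t = y) ↔ ∀ σ : Aut F, σ • y = y := by
  haveI := isConnected_terminal F
  obtain ⟨t⟩ := nonempty_terminal F
  constructor
  · rintro ⟨s, hs⟩ σ
    rw [← hs t, ← map_smul, smul_terminal]
  · intro h
    obtain ⟨s, hs⟩ := (exists_hom_iff F t y).2 fun σ _ => h σ
    exact ⟨s, fun t' => by rw [(subsingleton_terminal F).elim t' t, hs]⟩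

/-- Split objects are those with trivial action. -/
theorem exists_iso_coprod_iff (Y : C) :
    (∃ n : ℕ, Nonempty (Y ≅ ∐ fun _ : Fin n => ⊤_ C)) ↔ ∀ (σ : Aut F) (y : F.obj Y), σ • y = y := by
  constructor
  · rintro ⟨n, ⟨e⟩⟩ σ y
    obtain ⟨⟨j⟩, t, ht⟩ := Limits.FintypeCat.jointly_surjective
      (Discrete.functor (fun _ : Fin n => ⊤_ C) ⋙ F) _
      (isColimitOfPreserves F (coproductIsCoproduct fun _ : Fin n => ⊤_ C)) (F.map e.hom y)
    have hy : σ • F.map e.hom y = F.map e.hom y := by
      rw [← ht]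
      exact (map_smul F _ σ t).symm.trans (congrArg _ (smul_terminal F σ t))
    rw [← map_smul] at hy
    exact (ConcreteCategory.bijective_of_isIso (F.map e.hom)).1 hy
  · intro h
    haveI : Fintype (F.obj Y) := Fintype.ofFinite _
    let ε := Fintype.equivFin (F.obj Y)
    choose s hs using fun j => (exists_section_iff F (ε.symm j)).2 fun σ => h σ _
    let p : (∐ fun _ : Fin (Fintype.card (F.obj Y)) => ⊤_ C) ⟶ Y := Sigma.desc s
    obtain ⟨t₀⟩ := nonempty_terminal F
    have hsurj : ∀ y, ∃ j, F.map p (F.map (Sigma.ι (fun _ : Fin (Fintype.card (F.obj Y)) => ⊤_ C) j) t₀) = y := by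
      intro y
      refine ⟨ε y, ?_⟩
      rw [← FintypeCat.comp_apply, ← F.map_comp, Sigma.ι_desc, hs, Equiv.symm_apply_apply]
    haveI : IsIso (F.map p) := by
      rw [ConcreteCategory.isIso_iff_bijective]
      refine ⟨fun a b hab => ?_, fun y => ⟨_, (hsurj y).choose_spec⟩⟩
      obtain ⟨⟨i⟩, ta, rfl⟩ := Limits.FintypeCat.jointly_surjective _ _
        (isColimitOfPreserves F (coproductIsCoproduct fun _ : Fin (Fintype.card (F.obj Y)) => ⊤_ C)) a
      obtain ⟨⟨j⟩, tb, rfl⟩ := Limits.FintypeCat.jointly_surjective _ _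
        (isColimitOfPreserves F (coproductIsCoproduct fun _ : Fin (Fintype.card (F.obj Y)) => ⊤_ C)) b
      have hi : ∀ k t, F.map p (F.map (Sigma.ι (fun _ : Fin (Fintype.card (F.obj Y)) => ⊤_ C) k) t) = ε.symm k :=
        fun k t => by rw [← FintypeCat.comp_apply, ← F.map_comp, Sigma.ι_desc, hs]
      obtain rfl : i = j := ε.symm.injective ((hi i ta).symm.trans (hab.trans (hi j tb)))
      rw [(subsingleton_terminal F).elim ta tb]
    haveI := isIso_of_reflects_iso p F
    exact ⟨_, ⟨(asIso p).symm⟩⟩

open scoped FintypeCatDiscrete in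
/-- Every finite continuous `Aut F`-set is the fibre of an object. -/
theorem exists_obj_of_action (Q : Type w) [Fintype Q] [MulAction (Aut F) Q] [TopologicalSpace Q]
    [DiscreteTopology Q] [ContinuousSMul (Aut F) Q] :
    ∃ (X : C) (e : F.obj X ≃ Q), ∀ (σ : Aut F) x, e (σ • x) = σ • e x := by
  let A : Action FintypeCat.{w} (Aut F) := Action.FintypeCat.ofMulAction (Aut F) (FintypeCat.of Q)
  have hA : A.IsContinuous := by
    rw [Action.isContinuous_def]
    change @Continuous (Aut F × Q) Q (@instTopologicalSpaceProd _ _ _ ⊥) ⊥ (fun p => p.1 • p.2)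
    rw [← DiscreteTopology.eq_bot (α := Q)]
    exact continuous_smul
  obtain ⟨X, ⟨e⟩⟩ := Functor.EssSurj.mem_essImage (F := functorToContAction F) ⟨A, hA⟩
  let e' : (functorToAction F).obj X ≅ A := (ObjectProperty.ι _).mapIso e
  refine ⟨X, FintypeCat.equivEquivIso.symm ((Action.forget _ _).mapIso e'), fun σ x => ?_⟩
  exact ConcreteCategory.congr_hom (e'.hom.comm σ) x

/-- Every open subgroup is the stabilizer of a point of a connected object. -/
theorem exists_connected_stabilizer (V : Subgroup (Aut F)) (hV : IsOpen (V : Set (Aut F))) :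
    ∃ (X : C) (x : F.obj X), IsConnected X ∧ MulAction.stabilizer (Aut F) x = V := by
  obtain ⟨A, -, hA⟩ := (nhds_one_has_basis_stabilizers F).mem_iff.1 (hV.mem_nhds V.one_mem)
  let a := A.pt
  let st : Setoid (F.obj A.obj) :=
    { r := fun x y => ∀ σ τ : Aut F, σ • a = x → τ • a = y → σ⁻¹ * τ ∈ V
      iseqv := by
        refine ⟨fun x σ τ h h' => hA (show (σ⁻¹ * τ) • a = a by rw [mul_smul, h', ← h, inv_smul_smul]),
          fun {x y} h σ τ hσ hτ => ?_, fun {x y z} h h' σ τ hσ hτ => ?_⟩
        · have := V.inv_mem (h τ σ hτ hσ)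
          simpa [mul_inv_rev] using this
        · obtain ⟨ρ, hρ⟩ := MulAction.exists_smul_eq (Aut F) a y
          have := V.mul_mem (h σ ρ hσ hρ) (h' ρ τ hρ hτ)
          simpa [mul_assoc] using this }
  let π : F.obj A.obj → Quotient st := Quotient.mk _
  let Q := Quotient st
  haveI : Fintype Q := Fintype.ofFinite _
  letI : MulAction (Aut F) Q :=
    { smul := fun g => Quotient.map (fun x => g • x) fun x y h σ τ hσ hτ => by
        have := h (g⁻¹ * σ) (g⁻¹ * τ) (by rw [mul_smul, hσ, inv_smul_smul]) (by rw [mul_smul, hτ, inv_smul_smul])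
        simpa [mul_assoc] using this
      one_smul := fun q => Quotient.inductionOn q fun x => congrArg π (one_smul _ x)
      mul_smul := fun g h q => Quotient.inductionOn q fun x => congrArg π (mul_smul g h x) }
  letI : TopologicalSpace Q := ⊥
  haveI : DiscreteTopology Q := ⟨rfl⟩
  haveI : ContinuousSMul (Aut F) Q := ⟨by
    letI : TopologicalSpace (F.obj A.obj) := ⊥
    haveI : DiscreteTopology (F.obj A.obj) := ⟨rfl⟩
    haveI : ContinuousSMul (Aut F) (F.obj A.obj) := continuousSMul_aut_fiber F A.obj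
    have hrew : (fun p : Aut F × Q => p.1 • p.2) = π ∘ (fun p : Aut F × Q => p.1 • p.2.out) := by
      funext p
      conv_lhs => rw [← Quotient.out_eq p.2]
      rfl
    rw [hrew]
    exact (continuous_of_discreteTopology (f := π)).comp
      (continuous_fst.smul (continuous_of_discreteTopology.comp continuous_snd))⟩
  obtain ⟨X, e, he⟩ := exists_obj_of_action F Q
  have hstab : MulAction.stabilizer (Aut F) (e.symm (π a)) = V := by
    ext σ
    rw [MulAction.mem_stabilizer_iff, ← e.injective.eq_iff, he, Equiv.apply_symm_apply]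
    show π (σ • a) = π a ↔ _
    constructor
    · intro h
      have := (Quotient.exact h) σ 1 rfl (one_smul _ a)
      rw [mul_one] at this
      simpa using V.inv_mem this
    · intro hσ
      refine Quotient.sound fun τ ρ hτ hρ => ?_
      have h1 : τ⁻¹ * σ ∈ V := hA (show (τ⁻¹ * σ) • a = a by rw [mul_smul, ← hτ, inv_smul_smul])
      have h2 : ρ ∈ V := hA (show ρ • a = a from hρ)
      have := V.mul_mem h1 (V.mul_mem (V.inv_mem hσ) h2)
      simpa [mul_assoc] using this
  haveI : Nonempty (F.obj X) := ⟨e.symm (π a)⟩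
  refine ⟨X, e.symm (π a), isConnected_of_transitive F fun x y => ?_, hstab⟩
  obtain ⟨b, hb⟩ := Quotient.exists_rep (e x)
  obtain ⟨c, hc⟩ := Quotient.exists_rep (e y)
  obtain ⟨σ, hσ⟩ := MulAction.exists_smul_eq (Aut F) b c
  refine ⟨σ, e.injective ?_⟩
  rw [he, ← hb, ← hc, ← hσ]
  rfl

end GalFunLib
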