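import Groth.Agent.GalFunLib.Basic
import Groth.Prelude.Def_Pi1X

/-!
# The homomorphism of fundamental groups induced by an exact functor
-/

set_option autoImplicit false
universe w v u

open CategoryTheory CategoryTheory.Limits CategoryTheory.PreGaloisCategory Topology

namespace GalFunLib

variable {C C' : Type u} [Category.{v} C] [Category.{v} C'] [GaloisCategory C] [GaloisCategory C']
  (H : C ⥤ C') (F' : C' ⥤ FintypeCat.{w}) [FiberFunctor F'] [FiberFunctor (H ⋙ F')]

omit [GaloisCategory C] [GaloisCategory C'] [FiberFunctor F'] [FiberFunctor (H ⋙ F')] in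
theorem whisker_smul (σ : Aut F') {X : C} (x : (H ⋙ F').obj X) :
    Pi1X.autWhisker H F' σ • x = σ • @id (F'.obj (H.obj X)) x := rfl

theorem whisker_eq_one_iff (σ : Aut F') :
    Pi1X.autWhisker H F' σ = 1 ↔ ∀ (X : C) (x : F'.obj (H.obj X)), σ • x = x :=
  ⟨fun h X x => (whisker_smul H F' σ (X := X) x).symm.trans
      ((congrArg (fun g : Aut (H ⋙ F') => g • @id ((H ⋙ F').obj X) x) h).trans
        (one_smul (Aut (H ⋙ F')) (@id ((H ⋙ F').obj X) x))),
   fun h => aut_ext (H ⋙ F') fun X x =>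
     ((whisker_smul H F' σ x).trans (h X x)).trans (one_smul (Aut (H ⋙ F')) x).symm⟩

theorem continuous_autWhisker : Continuous (Pi1X.autWhisker H F') := by
  rw [continuous_induced_rng]
  exact continuous_pi fun X =>
    (continuous_apply (H.obj X)).comp (autEmbedding_isClosedEmbedding F').continuous

theorem isClosed_range_autWhisker :
    IsClosed ((Pi1X.autWhisker H F').range : Set (Aut (H ⋙ F'))) :=
  (isCompact_range (continuous_autWhisker H F')).isClosed

theorem surjective_of_preservesConnected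
    (h : ∀ X : C, IsConnected X → IsConnected (H.obj X)) :
    Function.Surjective (Pi1X.autWhisker H F') := by
  intro g
  have hcl := isClosed_range_autWhisker H F'
  show g ∈ ((Pi1X.autWhisker H F').range : Set (Aut (H ⋙ F')))
  rw [← hcl.closure_eq, mem_closure_iff_nhds]
  intro t ht
  have ht' : (fun σ => g * σ) ⁻¹' t ∈ 𝓝 (1 : Aut (H ⋙ F')) :=
    (continuous_const_mul g).continuousAt.preimage_mem_nhds (by rwa [mul_one])
  obtain ⟨A, -, hA⟩ := (nhds_one_has_basis_stabilizers (H ⋙ F')).mem_iff.1 ht'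
  haveI : IsConnected (H.obj A.obj) := h A.obj inferInstance
  obtain ⟨σ, hσ⟩ := MulAction.exists_smul_eq (Aut F') (show F'.obj (H.obj A.obj) from A.pt)
    (show F'.obj (H.obj A.obj) from g • A.pt)
  refine ⟨Pi1X.autWhisker H F' σ, ?_, σ, rfl⟩
  have h1 : (g⁻¹ * Pi1X.autWhisker H F' σ) • A.pt = A.pt := by
    rw [mul_smul, inv_smul_eq_iff]; exact hσ
  have := hA h1
  rwa [Set.mem_preimage, mul_inv_cancel_left] at this

theorem preservesConnected_of_surjective (hu : Function.Surjective (Pi1X.autWhisker H F'))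
    (X : C) [IsConnected X] : IsConnected (H.obj X) := by
  haveI : Nonempty (F'.obj (H.obj X)) := nonempty_fiber_of_isConnected (H ⋙ F') X
  refine isConnected_of_transitive F' fun x y => ?_
  obtain ⟨g, hg⟩ := MulAction.exists_smul_eq (Aut (H ⋙ F')) (show (H ⋙ F').obj X from x)
    (show (H ⋙ F').obj X from y)
  obtain ⟨σ, rfl⟩ := hu g
  exact ⟨σ, hg⟩

theorem full_faithful_of_surjective (hu : Function.Surjective (Pi1X.autWhisker H F')) :
    H.Full ∧ H.Faithful := by
  refine ⟨⟨fun {X Y} f => ?_⟩, Functor.Faithful.of_comp H F'⟩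
  obtain ⟨f₀, hf₀⟩ := exists_hom_of_equivariant (H ⋙ F') (X := X) (Y := Y) (F'.map f) fun g x => by
    obtain ⟨σ, rfl⟩ := hu g
    exact map_smul F' f σ x
  exact ⟨f₀, F'.map_injective (FintypeCat.hom_ext _ _ hf₀)⟩

include F' in
theorem preservesConnected_of_full [H.Full] (X : C) [IsConnected X] : IsConnected (H.obj X) := by
  classical
  haveI : Nonempty (F'.obj (H.obj X)) := nonempty_fiber_of_isConnected (H ⋙ F') X
  refine isConnected_of_transitive F' fun a b => ?_
  let G := H ⋙ F'
  haveI := nonempty_terminal G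
  obtain ⟨t⟩ := nonempty_terminal G
  let il : G.obj ((⊤_ C) ⨿ (⊤_ C)) := G.map coprod.inl t
  let ir : G.obj ((⊤_ C) ⨿ (⊤_ C)) := G.map coprod.inr t
  have hne : il ≠ ir := by
    intro hlr
    have hc := mapIsColimitOfPreservesOfIsColimit G _ _ (coprodIsCoprod (⊤_ C) (⊤_ C))
    obtain ⟨d, hd1, hd2⟩ := BinaryCofan.IsColimit.desc' hc
      (FintypeCat.homMk (fun _ => ULift.up.{w} true) : G.obj (⊤_ C) ⟶ FintypeCat.of (ULift.{w} Bool))
      (FintypeCat.homMk (fun _ => ULift.up.{w} false) : G.obj (⊤_ C) ⟶ FintypeCat.of (ULift.{w} Bool))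
    have e1 := ConcreteCategory.congr_hom hd1 t
    have e2 := ConcreteCategory.congr_hom hd2 t
    have : (ULift.up true : ULift.{w} Bool) = ULift.up false :=
      e1.symm.trans ((congrArg d hlr).trans e2)
    simp at this
  have hfix : ∀ (σ : Aut F'), σ • (show F'.obj (H.obj ((⊤_ C) ⨿ (⊤_ C))) from il) = il ∧
      σ • (show F'.obj (H.obj ((⊤_ C) ⨿ (⊤_ C))) from ir) = ir := fun σ =>
    ⟨(map_smul G coprod.inl (Pi1X.autWhisker H F' σ) t).symm.trans
        (congrArg _ (smul_terminal G _ t)),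
     (map_smul G coprod.inr (Pi1X.autWhisker H F' σ) t).symm.trans
        (congrArg _ (smul_terminal G _ t))⟩
  let ψ : F'.obj (H.obj X) → F'.obj (H.obj ((⊤_ C) ⨿ (⊤_ C))) := fun x =>
    if x ∈ MulAction.orbit (Aut F') a then il else ir
  obtain ⟨f, hf⟩ := exists_hom_of_equivariant F' ψ fun σ x => by
    simp only [ψ]
    have hmem : σ • x ∈ MulAction.orbit (Aut F') a ↔ x ∈ MulAction.orbit (Aut F') a := by
      rw [← MulAction.orbit_eq_iff, ← MulAction.orbit_eq_iff, MulAction.orbit_smul]
    simp only [hmem]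
    split_ifs
    exacts [((hfix σ).1).symm, ((hfix σ).2).symm]
  obtain ⟨f₀, rfl⟩ := H.map_surjective f
  have hconst : ψ b = ψ a := by
    obtain ⟨g, hg⟩ := MulAction.exists_smul_eq (Aut G) (show G.obj X from a) (show G.obj X from b)
    have htriv : g • G.map f₀ (show G.obj X from a) = G.map f₀ (show G.obj X from a) := by
      have hmem : G.map f₀ (show G.obj X from a) = il := (hf a).trans (if_pos (MulAction.mem_orbit_self a))
      rw [hmem, ← map_smul G, smul_terminal]
    rw [← hf b, ← hf a]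
    show G.map f₀ (show G.obj X from b) = G.map f₀ (show G.obj X from a)
    rw [← hg, map_smul G, htriv]
  by_contra hb
  have hb' : b ∉ MulAction.orbit (Aut F') a := fun ⟨σ, hσ⟩ => hb ⟨σ, hσ⟩
  simp only [ψ, if_neg hb', if_pos (MulAction.mem_orbit_self a)] at hconst
  exact hne hconst.symm

/-- The kernel lies in a stabilizer exactly when a connected subobject of some `H X` maps to it. -/
theorem ker_le_stabilizer_iff (X' : C') [IsConnected X'] (a' : F'.obj X') :
    (Pi1X.autWhisker H F').ker ≤ MulAction.stabilizer (Aut F') a' ↔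
      ∃ (X : C) (Y' : C') (i : Y' ⟶ H.obj X) (_q : Y' ⟶ X'), Mono i ∧ IsConnected Y' := by
  constructor
  · intro hker
    have hopen : IsOpen (MulAction.stabilizer (Aut F') a' : Set (Aut F')) :=
      stabilizer_isOpen (Aut F') a'
    have hKc : IsCompact (Pi1X.autWhisker H F' '' (MulAction.stabilizer (Aut F') a' : Set (Aut F'))ᶜ) :=
      hopen.isClosed_compl.isCompact.image (continuous_autWhisker H F')
    have h1 : (1 : Aut (H ⋙ F')) ∈ (Pi1X.autWhisker H F' '' (MulAction.stabilizer (Aut F') a' : Set (Aut F'))ᶜ)ᶜ := by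
      rintro ⟨σ, hσ, hσ1⟩
      exact hσ (hker hσ1)
    obtain ⟨A, -, hA⟩ := (nhds_one_has_basis_stabilizers (H ⋙ F')).mem_iff.1
      (hKc.isClosed.isOpen_compl.mem_nhds h1)
    obtain ⟨Y, i, z, hz, hY, hi⟩ := fiber_in_connected_component F' (H.obj A.obj) A.pt
    haveI := hY
    obtain ⟨q, -⟩ := (exists_hom_iff F' z a').2 fun σ (hσ : σ • z = z) => by
      by_contra hσ'
      have hpt : σ • (show F'.obj (H.obj A.obj) from A.pt) = A.pt := by
        rw [← hz, ← map_smul, hσ]
      exact hA (show Pi1X.autWhisker H F' σ • A.pt = A.pt from hpt) ⟨σ, hσ', rfl⟩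
    exact ⟨A.obj, Y, i, q, hi, hY⟩
  · rintro ⟨X, Y', i, q, hi, hY'⟩ σ hσ
    obtain ⟨y⟩ := nonempty_fiber_of_isConnected F' Y'
    obtain ⟨τ, hτ⟩ := MulAction.exists_smul_eq (Aut F') (F'.map q y) a'
    have h1 : F'.map i (σ • τ • y) = F'.map i (τ • y) := by
      rw [map_smul]
      exact (whisker_eq_one_iff H F' σ).1 hσ X _
    show σ • a' = a'
    rw [← hτ, ← map_smul, ← map_smul,
      ConcreteCategory.injective_of_mono_of_preservesPullback (F'.map i) h1]

end GalFunLib
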